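import Groth.Agent.FSmoothAdicLib.FlatBase
import Groth.Agent.FieldExtLib.Imperfection
import Groth.Agent.RegLocal.Consequences
import Groth.Agent.S0578

/-!
Artinian local rings with square-zero maximal ideal as quotients of regular local rings.
-/

set_option autoImplicit false
set_option linter.style.haveILetI false
universe u
open IsLocalRing

namespace Groth.Agent.SqZeroPresLib

variable {A : Type u} [CommRing A] [IsLocalRing A]

theorem exists_regular_presentation [IsNoetherianRing A] (h : maximalIdeal A ^ 2 = ⊥) (W : Type u) [CommRing W]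
    [IsRegularRing W] (v : W →+* A) {e : ℕ} (t : Fin e → W)
    (hv : Function.Surjective ((residue A).comp v))
    (hkW : RingHom.ker ((residue A).comp v) = Ideal.span (Set.range t))
    (ht : ∀ i, v (t i) ∈ maximalIdeal A)
    (hli : LinearIndependent (ResidueField A) (fun i => (maximalIdeal A).toCotangent ⟨v (t i), ht i⟩)) :
    ∃ (B : Type u) (_ : CommRing B) (_ : IsRegularLocalRing B), Nonempty (A ≃+* B ⧸ maximalIdeal B ^ 2) := by
  classical
  let k := ResidueField A
  let T : Fin e → CotangentSpace A := fun i => (maximalIdeal A).toCotangent ⟨v (t i), ht i⟩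
  let S : Submodule k (CotangentSpace A) := Submodule.span k (Set.range T)
  let bq := Module.finBasis k (CotangentSpace A ⧸ S)
  set s := Module.finrank k (CotangentSpace A ⧸ S)
  have hlift : ∀ j, ∃ g : maximalIdeal A, Submodule.Quotient.mk ((maximalIdeal A).toCotangent g) = bq j := fun j => by
    obtain ⟨z, hz⟩ := Submodule.Quotient.mk_surjective S (bq j)
    obtain ⟨g, rfl⟩ := (maximalIdeal A).toCotangent_surjective z
    exact ⟨g, hz⟩
  choose g hg using hlift
  let Φ : MvPolynomial (Fin s) W →+* A := MvPolynomial.eval₂Hom v fun j => (g j : A)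
  let P : Ideal (MvPolynomial (Fin s) W) := RingHom.ker ((residue A).comp Φ)
  have hΦC : ∀ w, Φ (MvPolynomial.C w) = v w := fun w => MvPolynomial.eval₂Hom_C _ _ w
  have hΦX : ∀ j, Φ (MvPolynomial.X j) = g j := fun j => MvPolynomial.eval₂Hom_X' _ _ j
  haveI hPmax : P.IsMaximal := RingHom.ker_isMaximal_of_surjective _ fun c => by
    obtain ⟨w, hw⟩ := hv c
    exact ⟨MvPolynomial.C w, by rw [RingHom.comp_apply, hΦC]; exact hw⟩
  let G : Fin e ⊕ Fin s → MvPolynomial (Fin s) W := Sum.elim (fun i => MvPolynomial.C (t i)) MvPolynomial.X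
  have hGP : ∀ x, G x ∈ P := by
    rintro (i | j)
    · show residue A (Φ (MvPolynomial.C (t i))) = 0
      rw [hΦC]; exact (residue_eq_zero_iff _).2 (ht i)
    · show residue A (Φ (MvPolynomial.X j)) = 0
      rw [hΦX]; exact (residue_eq_zero_iff _).2 (g j).2
  have hPG : P ≤ Ideal.span (Set.range G) := by
    intro q hq
    have hX : ∀ q : MvPolynomial (Fin s) W, q - MvPolynomial.C (MvPolynomial.constantCoeff q) ∈ Ideal.span (Set.range G) := by
      intro q
      induction q using MvPolynomial.induction_on with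
      | C a => simp
      | add a b ha hb => rw [map_add, map_add, add_sub_add_comm]; exact add_mem ha hb
      | mul_X a j ha =>
        rw [map_mul, MvPolynomial.constantCoeff_X, mul_zero, map_zero, sub_zero]
        exact Ideal.mul_mem_left _ _ (Ideal.subset_span ⟨Sum.inr j, rfl⟩)
    have h0 : MvPolynomial.constantCoeff q ∈ RingHom.ker ((residue A).comp v) := by
      have h1 : Ideal.span (Set.range G) ≤ P := Ideal.span_le.2 (by rintro _ ⟨x, rfl⟩; exact hGP x)
      have h2 := P.sub_mem hq (h1 (hX q))
      rw [sub_sub_cancel] at h2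
      show residue A (v _) = 0
      rw [← hΦC]
      exact h2
    rw [hkW] at h0
    rw [← sub_add_cancel q (MvPolynomial.C (MvPolynomial.constantCoeff q))]
    refine add_mem (hX q) ?_
    have h3 := Ideal.mem_map_of_mem (MvPolynomial.C (σ := Fin s) (R := W)) h0
    rw [Ideal.map_span] at h3
    refine Ideal.span_mono ?_ h3
    rintro _ ⟨_, ⟨i, rfl⟩, rfl⟩
    exact ⟨Sum.inl i, rfl⟩
  let B := Localization.AtPrime P
  haveI : IsRegularLocalRing B := IsRegularRing.isRegularLocalRing_localization P
  have hunit : ∀ y : P.primeCompl, IsUnit (Φ y) := fun y => IsLocalRing.notMem_maximalIdeal.1 fun hmem =>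
    y.2 ((residue_eq_zero_iff _).2 hmem)
  let φ : B →+* A := IsLocalization.lift (M := P.primeCompl) hunit
  have hφ : ∀ q, φ (algebraMap _ B q) = Φ q := IsLocalization.lift_eq hunit
  let Gb : Fin e ⊕ Fin s → B := fun x => algebraMap _ B (G x)
  have hmax : maximalIdeal B = Ideal.span (Set.range Gb) := by
    have hP' : P = Ideal.span (Set.range G) := le_antisymm hPG (Ideal.span_le.2 (by rintro _ ⟨x, rfl⟩; exact hGP x))
    refine Localization.AtPrime.map_eq_maximalIdeal.symm.trans ((congrArg (Ideal.map _) hP').trans ?_)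
    rw [Ideal.map_span, ← Set.range_comp]
    rfl
  have hφm : ∀ x ∈ maximalIdeal B, φ x ∈ maximalIdeal A := by
    intro x hx
    rw [hmax] at hx
    induction hx using Submodule.span_induction with
    | mem z hz =>
      obtain ⟨y, rfl⟩ := hz
      show φ (algebraMap _ B (G y)) ∈ _
      rw [hφ]
      exact (residue_eq_zero_iff _).1 (hGP y)
    | zero => rw [map_zero]; exact zero_mem _
    | add a b _ _ ha hb => rw [map_add]; exact add_mem ha hb
    | smul r a _ ha => rw [smul_eq_mul, map_mul]; exact Ideal.mul_mem_left _ _ ha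
  let U : Fin e ⊕ Fin s → maximalIdeal A := Sum.elim (fun i => ⟨v (t i), ht i⟩) g
  have hU : ∀ x, φ (Gb x) = U x := by
    rintro (i | j)
    · show φ (algebraMap _ B (MvPolynomial.C (t i))) = v (t i); rw [hφ, hΦC]
    · show φ (algebraMap _ B (MvPolynomial.X j)) = g j; rw [hφ, hΦX]
  have hspan : Submodule.span k (Set.range fun x => (maximalIdeal A).toCotangent (U x)) = ⊤ := by
    rw [eq_top_iff]
    intro z _
    have hz : S.mkQ z ∈ (Submodule.span k (Set.range bq)) := by rw [bq.span_eq]; trivial
    rw [show Set.range bq = S.mkQ '' Set.range (fun j => (maximalIdeal A).toCotangent (g j)) by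
      rw [← Set.range_comp]; exact congrArg Set.range (funext fun j => (hg j).symm), ← Submodule.map_span] at hz
    obtain ⟨y, hy, hyz⟩ := hz
    rw [← add_sub_cancel y z]
    refine add_mem (Submodule.span_mono ?_ hy) (Submodule.span_mono ?_ ((Submodule.Quotient.eq S).1 hyz.symm))
    · rintro _ ⟨j, rfl⟩; exact ⟨Sum.inr j, rfl⟩
    · rintro _ ⟨i, rfl⟩; exact ⟨Sum.inl i, rfl⟩
  have hcard : Fintype.card (Fin e ⊕ Fin s) = Module.finrank k (CotangentSpace A) := by
    rw [Fintype.card_sum, Fintype.card_fin, Fintype.card_fin, ← Submodule.finrank_quotient_add_finrank S,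
      finrank_span_eq_card hli, Fintype.card_fin, add_comm]
  have hliU := linearIndependent_of_top_le_span_of_card_eq_finrank hspan.ge hcard
  have hker : RingHom.ker φ = maximalIdeal B ^ 2 := by
    refine le_antisymm (fun x hx => ?_) ?_
    · have hxm : x ∈ maximalIdeal B := by
        by_contra hne
        have := (IsLocalRing.notMem_maximalIdeal.1 hne).map φ
        rw [show φ x = 0 from hx] at this
        exact not_isUnit_zero this
      rw [hmax] at hxm
      obtain ⟨b, rfl⟩ := Ideal.mem_span_range_iff_exists_fun.1 hxm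
      have h0 : ∀ y, residue A (φ (b y)) = 0 := Fintype.linearIndependent_iff.1 hliU (fun y => residue A (φ (b y))) (by
        have h1 : (∑ y, φ (b y) • U y : maximalIdeal A) = 0 := Subtype.ext (by
          rw [Submodule.coe_sum, Submodule.coe_zero, ← show φ (∑ y, b y * Gb y) = 0 from hx, map_sum]
          exact Finset.sum_congr rfl fun y _ => by rw [map_mul, hU]; rfl)
        have h2 := congrArg (maximalIdeal A).toCotangent h1
        rw [map_sum, map_zero] at h2
        rw [← h2]
        refine Finset.sum_congr rfl fun y _ => ?_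
        rw [map_smul, ← algebraMap_smul k (φ (b y))]
        rfl)
      refine Ideal.sum_mem _ fun y _ => ?_
      rw [pow_two]
      refine Ideal.mul_mem_mul ?_ (hmax ▸ Ideal.subset_span ⟨y, rfl⟩)
      by_contra hne
      have := (IsLocalRing.notMem_maximalIdeal.1 hne).map φ
      exact (IsLocalRing.mem_maximalIdeal _).1 ((residue_eq_zero_iff _).1 (h0 y)) this
    · rw [pow_two, Ideal.mul_le]
      intro a ha b hb
      show φ (a * b) = 0
      have := Ideal.mul_mem_mul (hφm a ha) (hφm b hb)
      rw [← pow_two, h, Ideal.mem_bot] at this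
      rw [map_mul, this]
  have hsurj : Function.Surjective φ := by
    have hm : ∀ a ∈ maximalIdeal A, a ∈ φ.range := by
      intro a ha
      have hz : (maximalIdeal A).toCotangent ⟨a, ha⟩ ∈ Submodule.span k (Set.range fun x => (maximalIdeal A).toCotangent (U x)) := by
        rw [hspan]; trivial
      obtain ⟨c, hc⟩ := (Submodule.mem_span_range_iff_exists_fun k).1 hz
      choose w hw using fun y => hv (c y)
      refine ⟨∑ y, algebraMap _ B (MvPolynomial.C (σ := Fin s) (R := W) (w y)) * Gb y, ?_⟩
      have h1 : (maximalIdeal A).toCotangent (∑ y, v (w y) • U y) = (maximalIdeal A).toCotangent ⟨a, ha⟩ := by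
        rw [← hc, map_sum]
        refine Finset.sum_congr rfl fun y _ => ?_
        rw [map_smul, ← hw y, ← algebraMap_smul k (v (w y))]
        rfl
      rw [Ideal.toCotangent_eq, h, Ideal.mem_bot, sub_eq_zero, Submodule.coe_sum] at h1
      rw [map_sum]
      refine Eq.trans ?_ h1
      exact Finset.sum_congr rfl fun y _ => by rw [map_mul, hφ, hΦC, hU]; rfl
    intro a
    obtain ⟨w, hw⟩ := hv (residue A a)
    obtain ⟨x, hx⟩ := hm (a - v w) ((residue_eq_zero_iff _).1 (by rw [map_sub, ← hw]; exact sub_self _))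
    exact ⟨algebraMap _ B (MvPolynomial.C w) + x, by rw [map_add, hφ, hΦC, hx]; ring⟩
  exact ⟨B, inferInstance, inferInstance,
    ⟨((Ideal.quotEquivOfEq hker).symm.trans (RingHom.quotientKerEquivOfSurjective hsurj)).symm⟩⟩

theorem field_case (h : maximalIdeal A ^ 2 = ⊥) {F : Type} [Field F] [Algebra F A]
    (hfs : Algebra.FormallySmooth F (ResidueField A)) :
    ∃ (W : Type u) (_ : CommRing W) (_ : IsRegularRing W) (v : W →+* A) (e : ℕ) (t : Fin e → W),
      Function.Surjective ((residue A).comp v) ∧
      RingHom.ker ((residue A).comp v) = Ideal.span (Set.range t) ∧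
      ∃ ht : ∀ i, v (t i) ∈ maximalIdeal A,
        LinearIndependent (ResidueField A) (fun i => (maximalIdeal A).toCotangent ⟨v (t i), ht i⟩) := by
  let π : A →ₐ[F] ResidueField A := IsScalarTower.toAlgHom F A (ResidueField A)
  have hπ : Function.Surjective π := residue_surjective
  have hnil : IsNilpotent (RingHom.ker π.toRingHom) := ⟨2, by
    rw [Ideal.zero_eq_bot, eq_bot_iff, ← h]
    exact Ideal.pow_right_mono (fun x hx => (residue_eq_zero_iff x).1 hx) 2⟩
  let σ := Algebra.FormallySmooth.liftOfSurjective (AlgHom.id F (ResidueField A)) π hπ hnil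
  have hσ : ∀ y, π (σ y) = y := fun y =>
    Algebra.FormallySmooth.liftOfSurjective_apply (AlgHom.id F (ResidueField A)) π hπ hnil y
  refine ⟨ResidueField A, inferInstance, inferInstance, σ.toRingHom, 0, Fin.elim0,
    fun y => ⟨y, hσ y⟩, ?_, fun i => i.elim0, linearIndependent_empty_type⟩
  rw [Set.range_eq_empty, Ideal.span_empty, eq_bot_iff]
  intro y hy
  rw [Ideal.mem_bot, ← hσ y]
  exact hy

theorem cohen_case (h : maximalIdeal A ^ 2 = ⊥) (p : ℕ) [Fact p.Prime] [CharP (ResidueField A) p] (hpA : (p : A) ≠ 0) :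
    ∃ (W : Type u) (_ : CommRing W) (_ : IsRegularRing W) (v : W →+* A) (e : ℕ) (t : Fin e → W),
      Function.Surjective ((residue A).comp v) ∧
      RingHom.ker ((residue A).comp v) = Ideal.span (Set.range t) ∧
      ∃ ht : ∀ i, v (t i) ∈ maximalIdeal A,
        LinearIndependent (ResidueField A) (fun i => (maximalIdeal A).toCotangent ⟨v (t i), ht i⟩) := by
  classical
  have hp : p.Prime := Fact.out
  obtain ⟨W, _, _, ⟨_, hdvr, hcomp, q, hq, hmW⟩, ⟨e₀⟩⟩ := Groth.Agent.S0578.result p (ResidueField A)
  haveI := hdvr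
  haveI : CharP (ResidueField W) p := charP_of_injective_ringHom (f := e₀.symm.toRingHom) e₀.symm.injective p
  have hpq : p = q := by
    have : (q : ResidueField W) = 0 := by
      rw [← map_natCast (residue W), residue_eq_zero_iff, hmW]
      exact Ideal.mem_span_singleton_self _
    exact ((Nat.prime_dvd_prime_iff_eq hp hq).1 ((CharP.cast_eq_zero_iff _ p q).1 this))
  subst hpq
  have hpW : (p : W) ≠ 0 := fun h0 => IsDiscreteValuationRing.not_a_field W (by
    rw [hmW, h0, Ideal.span_singleton_eq_bot])
  haveI : CharZero W := by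
    refine charZero_of_inj_zero fun n hn => by_contra fun h0 => ?_
    obtain ⟨a, m, hm, rfl⟩ := Nat.exists_eq_pow_mul_and_not_dvd h0 p hp.ne_one
    rw [Nat.cast_mul, Nat.cast_pow, mul_eq_zero] at hn
    rcases hn with hn | hn
    · exact hpW (pow_eq_zero_iff (fun ha => by simp [ha] at hn) |>.1 hn)
    · refine hm ((CharP.cast_eq_zero_iff (ResidueField W) p m).1 ?_)
      rw [← map_natCast (residue W), hn, map_zero]
  let P : Ideal ℤ := Ideal.span {(p : ℤ)}
  haveI : P.IsPrime := (Ideal.span_singleton_prime (by exact_mod_cast hp.ne_zero)).mpr (Nat.prime_iff_prime_int.mp hp)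
  haveI : P.IsMaximal := Int.ideal_span_isMaximal_of_prime p
  let A₀ := ULift.{u} (Localization.AtPrime P)
  haveI : IsLocalRing A₀ := RingEquiv.isLocalRing ULift.ringEquiv.symm
  have hu : ∀ (R : Type u) [CommRing R] [IsLocalRing R] [CharP (ResidueField R) p] (y : P.primeCompl),
      IsUnit (Int.castRingHom R y) := fun R _ _ _ y => IsLocalRing.notMem_maximalIdeal.1 fun hmem => y.2 (by
    have h1 := (residue_eq_zero_iff _).2 hmem
    rw [eq_intCast, map_intCast, CharP.intCast_eq_zero_iff _ p] at h1
    exact Ideal.mem_span_singleton.2 h1)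
  letI : Algebra A₀ W := ((IsLocalization.lift (hu W)).comp (ULift.ringEquiv : A₀ ≃+* Localization.AtPrime P).toRingHom).toAlgebra
  letI : Algebra A₀ A := ((IsLocalization.lift (hu A)).comp (ULift.ringEquiv : A₀ ≃+* Localization.AtPrime P).toRingHom).toAlgebra
  have hm₀ : maximalIdeal A₀ = Ideal.span {(p : A₀)} := by
    have h1 : maximalIdeal (Localization.AtPrime P) = Ideal.span {(p : Localization.AtPrime P)} := by
      rw [← Localization.AtPrime.map_eq_maximalIdeal, Ideal.map_span, Set.image_singleton, map_natCast]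
    rw [← IsLocalRing.eq_maximalIdeal (Ideal.map_isMaximal_of_equiv
      (ULift.ringEquiv.symm : Localization.AtPrime P ≃+* A₀)
      (p := maximalIdeal (Localization.AtPrime P))), h1, Ideal.map_span, Set.image_singleton, map_natCast]
  have hmap : (maximalIdeal A₀).map (algebraMap A₀ W) = maximalIdeal W := by
    rw [hm₀, Ideal.map_span, Set.image_singleton, map_natCast, hmW]
  have hinj : Function.Injective (algebraMap A₀ W) := by
    show Function.Injective ((IsLocalization.lift (S := Localization.AtPrime P) (hu W)) ∘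
      (ULift.ringEquiv : A₀ ≃+* Localization.AtPrime P))
    refine Function.Injective.comp ?_ (ULift.ringEquiv : A₀ ≃+* Localization.AtPrime P).injective
    rw [IsLocalization.lift_injective_iff]
    intro x y
    constructor
    · intro hxy; rw [IsLocalization.injective (Localization.AtPrime P) P.primeCompl_le_nonZeroDivisors hxy]
    · intro hxy; rw [Int.cast_injective (α := W) hxy]
  haveI : IsDomain A₀ := (ULift.ringEquiv : A₀ ≃+* Localization.AtPrime P).toMulEquiv.isDomain
  haveI : IsPrincipalIdealRing A₀ := IsPrincipalIdealRing.of_surjective (ULift.ringEquiv.symm : Localization.AtPrime P ≃+* A₀).toRingHom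
    (ULift.ringEquiv.symm : Localization.AtPrime P ≃+* A₀).surjective
  haveI : Module.Flat A₀ W := by
    rw [Module.Flat.flat_iff_torsion_eq_bot_of_isBezout, eq_bot_iff]
    rintro x ⟨⟨a, ha⟩, hax⟩
    have hax' : algebraMap A₀ W a * x = 0 := by rw [← Algebra.smul_def]; exact hax
    refine (mul_eq_zero.1 hax').resolve_left fun h0 => nonZeroDivisors.ne_zero ha (hinj ?_)
    rw [h0, map_zero]
  haveI : CharP (A₀ ⧸ maximalIdeal A₀) p := by
    refine (CharP.charP_iff_prime_eq_zero hp).2 ?_
    rw [← map_natCast (Ideal.Quotient.mk (maximalIdeal A₀)), Ideal.Quotient.eq_zero_iff_mem, hm₀]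
    exact Ideal.mem_span_singleton_self _
  letI : Field (A₀ ⧸ maximalIdeal A₀) := Ideal.Quotient.field _
  haveI : PerfectField (ZMod p) := inferInstance
  haveI : (maximalIdeal W).IsMaximal := inferInstance
  haveI hMW : ((maximalIdeal A₀).map (algebraMap A₀ W)).IsMaximal := by rw [hmap]; infer_instance
  letI : Field (W ⧸ (maximalIdeal A₀).map (algebraMap A₀ W)) := Ideal.Quotient.field _
  haveI : Finite (A₀ ⧸ maximalIdeal A₀) := by
    refine Finite.of_surjective (fun z : ZMod p => ((ZMod.castHom dvd_rfl (A₀ ⧸ maximalIdeal A₀)) z)) fun z => ?_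
    obtain ⟨a, rfl⟩ := Ideal.Quotient.mk_surjective z
    obtain ⟨a, rfl⟩ := (ULift.ringEquiv.symm : Localization.AtPrime P ≃+* A₀).surjective a
    let f : Localization.AtPrime P →+* A₀ ⧸ maximalIdeal A₀ :=
      (Ideal.Quotient.mk _).comp (ULift.ringEquiv.symm : Localization.AtPrime P ≃+* A₀).toRingHom
    obtain ⟨n, d, rfl⟩ := IsLocalization.exists_mk'_eq P.primeCompl a
    refine ⟨(n : ZMod p) * ((d : ℤ) : ZMod p)⁻¹, ?_⟩
    have hd : ((d : ℤ) : ZMod p) ≠ 0 := fun h0 => d.2 (Ideal.mem_span_singleton.2 ((ZMod.intCast_zmod_eq_zero_iff_dvd _ p).1 h0))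
    have hd' : (((d : ℤ) : A₀ ⧸ maximalIdeal A₀)) ≠ 0 := fun h0 => by
      refine hd ((ZMod.castHom dvd_rfl (A₀ ⧸ maximalIdeal A₀)).injective ?_)
      rw [map_intCast, map_zero, h0]
    show ZMod.castHom dvd_rfl _ _ = f (IsLocalization.mk' _ n d)
    refine mul_right_cancel₀ hd' ?_
    rw [map_mul, map_inv₀, map_intCast, map_intCast, inv_mul_cancel_right₀ hd', ← map_intCast f (d : ℤ), ← map_mul,
      ← eq_intCast (algebraMap ℤ (Localization.AtPrime P)) (d : ℤ), IsLocalization.mk'_spec, eq_intCast, map_intCast]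
  haveI : Algebra.FormallySmooth (A₀ ⧸ maximalIdeal A₀) (W ⧸ (maximalIdeal A₀).map (algebraMap A₀ W)) :=
    Groth.Agent.FieldExtLib.formallySmooth_field_of_perfectField _ _
  have hW := Groth.Agent.FSmoothAdicLib.isFormallySmoothAdic_of_flat (A := A₀) (B := W)
  let π : W →+* A ⧸ maximalIdeal A := (e₀.toRingHom).comp (residue W)
  let u : W →ₐ[A₀] A ⧸ maximalIdeal A :=
    { π with
      commutes' := fun a => RingHom.congr_fun
        (show π.comp (algebraMap A₀ W) = algebraMap A₀ (A ⧸ maximalIdeal A) by
          have h := IsLocalization.ringHom_ext P.primeCompl (RingHom.ext_int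
            ((((π.comp (algebraMap A₀ W)).comp (ULift.ringEquiv.symm : Localization.AtPrime P ≃+* A₀).toRingHom)).comp (algebraMap ℤ _))
            ((((algebraMap A₀ (A ⧸ maximalIdeal A))).comp (ULift.ringEquiv.symm : Localization.AtPrime P ≃+* A₀).toRingHom).comp (algebraMap ℤ _)))
          exact RingHom.ext fun z => by
            obtain ⟨z, rfl⟩ := (ULift.ringEquiv.symm : Localization.AtPrime P ≃+* A₀).surjective z
            exact RingHom.congr_fun h z) a }
  obtain ⟨v, hv⟩ := hW A (maximalIdeal A) ⟨2, by rw [Ideal.zero_eq_bot]; exact h⟩ ⟨2, by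
      rw [eq_bot_iff, ← h, Ideal.map_pow]
      refine Ideal.pow_right_mono ?_ 2
      rw [hm₀, Ideal.map_span, Set.image_singleton, map_natCast, Ideal.span_singleton_le_iff_mem, ← residue_eq_zero_iff,
        map_natCast, CharP.cast_eq_zero]⟩ u ⟨1, fun x hx => by
      rw [pow_one, hmap] at hx
      show e₀ (residue W x) = 0
      rw [(residue_eq_zero_iff _).2 hx, map_zero]⟩
  have hres : (residue A).comp v.toRingHom = π := RingHom.ext fun x => AlgHom.congr_fun hv x
  refine ⟨W, inferInstance, inferInstance, v.toRingHom, 1, fun _ => (p : W), ?_, ?_, fun _ => ?_, ?_⟩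
  · rw [hres]; exact e₀.surjective.comp residue_surjective
  · rw [hres, Set.range_const, ← hmW]
    ext x
    show e₀ (residue W x) = 0 ↔ _
    rw [map_eq_zero_iff _ e₀.injective, residue_eq_zero_iff]
  · rw [map_natCast, ← residue_eq_zero_iff, map_natCast, CharP.cast_eq_zero]
  · rw [linearIndependent_unique_iff, ne_eq, Ideal.toCotangent_eq_zero, h, Ideal.mem_bot]
    simpa using hpA

end Groth.Agent.SqZeroPresLib
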